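import Cfsg.Agent.H129.EE.NFive
import Cfsg.Agent.S1065

/-!
# `GG k` is `E₈(2)` (helper129, S3384, piece L)
-/

set_option autoImplicit false
set_option linter.unusedSectionVars false

namespace Cfsg.Agent.H129.EE

open CoxeterSystem Subgroup Cfsg Cfsg.Lie Cfsg.Lie.ChevalleyDatum
open Cfsg.Agent.ChevalleyStructure Cfsg.Agent.ChevalleyStructure.Elts Cfsg.Agent.ChevalleyStructure.CoxeterGeom
  Cfsg.Agent.ChevalleyStructure.CoxeterGeomTypes Cfsg.Agent.ChevalleyStructure.NPerm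
open Cfsg.Agent.Tits.Roots Cfsg.Agent.Tits.Core Cfsg.Agent.Nodes Cfsg.Agent.Nodes.SubComb Cfsg.Agent.Nodes.Reps
  Cfsg.Agent.Nodes.BNOf Cfsg.Agent.Nodes.RGDChev Cfsg.Agent.Nodes.Bruhat Cfsg.Agent.Nodes.Coroot
open Cfsg.Agent.KFacts.RgdField Cfsg.Agent.KFacts.RgdChevCoord Cfsg.Agent.BpExc.TorCent Cfsg.Agent.BpExc.TorChev
open Cfsg.Agent.GpExc.Field Cfsg.Agent.BpExc.Tow Cfsg.Agent.BpExc.TowChev Cfsg.Agent.BpExc.Fr
  Cfsg.Agent.BpExc.LangFr Cfsg.Agent.BpExc.FamField Cfsg.Agent.BpExc.FamInst Cfsg.Agent.H129.TorusChar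
  Cfsg.Agent.H795.LangT Cfsg.Agent.BpExc.FamExt Cfsg.Agent.BpExc.FamUntw Cfsg.Agent.H378.TorDual Cfsg.Agent.H378.TorChar
  Cfsg.Agent.H378.TorFin Cfsg.Agent.H378.RankOne Cfsg.Agent.H378.RootTor Cfsg.Agent.H865.EE Cfsg.Agent.H123.ExcZ

attribute [local irreducible] w8

section

variable {k : Type} [Field k] [CharP k 2] [PerfectRing k 2] [IsAlgClosed k]

/-- **`GG k ≃ E₈(2)`** -/
theorem exists_GG_equiv : Nonempty (↥(H865.EE.GG k) ≃* ↥(chevE8.group (ZMod 2))) := by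
  obtain ⟨z, hz⟩ := lang' tp8 2 one_pos (nu tp8 k w8)
  have hz' : phi chevE8 k 2 1 z = z * nu tp8 k w8 := by rw [← hz]; group
  have hcard : Nat.card (ZMod 2) = 2 ^ 1 := by simp
  let e := emb tp8.inList (f2 k)
  have he : Function.Injective e := emb_injective tp8.inList (f2 k)
  have h1 : (H865.EE.GG k).map (MulAut.conj z).toMonoidHom = e.range := by
    apply le_antisymm
    · rintro _ ⟨y, hy, rfl⟩
      exact fix_mem tp8 (f2 k) 2 hcard invC_E8 (fix_of_tau 2 hz hy)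
    · rintro _ ⟨x, rfl⟩
      refine ⟨z⁻¹ * e x * z, ?_, ?_⟩
      · show ta k (z⁻¹ * e x * z) = z⁻¹ * e x * z
        have h2 : phi chevE8 k 2 1 (e x) = e x := phi_emb' tp8 (f2 k) 2 hcard x
        rw [ta_apply, map_mul, map_mul, map_inv, hz', h2]
        group
      · show z * (z⁻¹ * e x * z) * z⁻¹ = e x
        group
  have e1 := (H865.EE.GG k).equivMapOfInjective (MulAut.conj z).toMonoidHom (MulAut.conj z).injective
  have e2 := MulEquiv.subgroupCongr h1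
  have e3 := (MonoidHom.ofInjective he).symm
  exact ⟨(e1.trans e2).trans e3⟩

theorem finite_GG : Finite ↥(H865.EE.GG k) := by
  obtain ⟨e⟩ := exists_GG_equiv (k := k)
  exact Finite.of_equiv _ e.symm.toEquiv

theorem card_GG : Nat.card ↥(H865.EE.GG k) = Nat.card ↥(chevE8.group (ZMod 2)) := by
  obtain ⟨e⟩ := exists_GG_equiv (k := k)
  exact Nat.card_congr e.toEquiv

theorem not_dvd_card : ¬ 5 ^ 6 ∣ Nat.card ↥(H865.EE.GG k) := by
  have h := Cfsg.Agent.S1065.result (F := ZMod 2) (ZMod.card 2)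
  rw [card_GG, h]
  norm_num

end

end Cfsg.Agent.H129.EE
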