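import Cfsg.Agent.H865.EE.PP

/-!
# The centralizer and the normalizer of `E5 k` (helper129, S3384, piece T2)

* `cent_E5`, `norm_E5`, `nu_mem_GG`, `ta_xc`, `conj_XB`.
-/

set_option autoImplicit false
set_option linter.unusedSectionVars false

namespace Cfsg.Agent.H129.EE

open CoxeterSystem Subgroup Cfsg Cfsg.Lie Cfsg.Lie.ChevalleyDatum
open Cfsg.Agent.ChevalleyStructure Cfsg.Agent.ChevalleyStructure.Elts Cfsg.Agent.ChevalleyStructure.CoxeterGeom
  Cfsg.Agent.ChevalleyStructure.CoxeterGeomTypes Cfsg.Agent.ChevalleyStructure.NPerm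
open Cfsg.Agent.Tits.Roots Cfsg.Agent.Tits.Core Cfsg.Agent.Nodes Cfsg.Agent.Nodes.SubComb Cfsg.Agent.Nodes.Reps
  Cfsg.Agent.Nodes.BNOf Cfsg.Agent.Nodes.RGDChev Cfsg.Agent.Nodes.Bruhat Cfsg.Agent.Nodes.Coroot
open Cfsg.Agent.KFacts.RgdField Cfsg.Agent.KFacts.RgdChevCoord Cfsg.Agent.BpExc.TorCent Cfsg.Agent.BpExc.TorChev
open Cfsg.Agent.GpExc.Field Cfsg.Agent.BpExc.Tow Cfsg.Agent.BpExc.TowChev Cfsg.Agent.BpExc.Fr
  Cfsg.Agent.BpExc.LangFr Cfsg.Agent.BpExc.FamField Cfsg.Agent.BpExc.FamInst Cfsg.Agent.H129.TorusChar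
  Cfsg.Agent.H795.LangT Cfsg.Agent.BpExc.FamExt Cfsg.Agent.BpExc.FamUntw Cfsg.Agent.H378.TorDual Cfsg.Agent.H378.TorChar
  Cfsg.Agent.H378.TorFin Cfsg.Agent.H378.RankOne Cfsg.Agent.H378.RootTor Cfsg.Agent.H865.EE Cfsg.Agent.H123.ExcZ

attribute [local irreducible] w8

/-! ### Representatives of the Weyl group -/

theorem rp_cast {Y : Type*} [Group Y] {I : Type*} {M : CoxeterMatrix I} {W : Type*} [Group W]
    {cs : CoxeterSystem M W} {T T' : Subgroup Y} {n : I → Y} (e : T = T') (hN : NSys M T n) (hN' : NSys M T' n)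
    {w : W} {c : Y} (h : Rp cs hN w c) : Rp cs hN' w c := by
  subst e
  exact h

section Gen

universe u

variable {D : ChevalleyDatum} {l : ℕ} {M : CoxeterMatrix (Fin l)} (hp : IsType D l M)
  {k : Type u} [Field k] (hk : LocFin k) (r : ℕ) [Fact r.Prime] [CharP k r]

include hk in
/-- an element commuting with a family of torus elements on which no root is trivial represents an element of the Weyl
group -/
theorem rp_of_comm {ι : Type*} [Finite ι] {s : ι → ↥(D.group k)} (hs : ∀ i, s i ∈ TT D k)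
    (hreg : ∀ a, IsRoot M.toCoxeterSystem hp.isCartan a → ∃ i, ch hp a (s i) ≠ 1) {c : ↥(D.group k)}
    (hc : ∀ i, c * s i = s i * c) : ∃ w, Rp M.toCoxeterSystem (nsysL hp M.toCoxeterSystem hk r) w c := by
  have hWf := finite_W hp (M.toCoxeterSystem)
  have H := tow hp M.toCoxeterSystem hk r
  have C : Coords M.toCoxeterSystem hp.isCartan (TL (Tj hp (k := k))) (nc hp k) (XL (Xj hp)) (xc hp) (ch hp) := by
    rw [TL_eq hp hk, XL_eq hp hk]
    exact coordsL hp M.toCoxeterSystem hk r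
  have hGt := GG_eq_top hp M.toCoxeterSystem hk
  have hTL := TL_eq (k := k) hp hk
  obtain ⟨m, hm, w, n, hn, hns, e⟩ := exists_form' H C (ι := ι) (s := s) (t := s)
    (fun a => by rw [hTL]; exact hs a) (fun a => by rw [hTL]; exact hs a) (c := c)
    (by rw [hGt]; exact Subgroup.mem_top _) hc
  have hSZ : SZ M.toCoxeterSystem hp.isCartan (ch hp) s = ∅ := by
    rw [Set.eq_empty_iff_forall_notMem]
    intro a ha
    obtain ⟨i, hi⟩ := hreg a ha.1
    exact hi (ha.2 i)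
  have hm1 : m = 1 := by
    have h1 : m ∈ (⊥ : Subgroup ↥(D.group k)) := by
      have h2 : MZ M.toCoxeterSystem hp.isCartan (XL (Xj hp (k := k))) (ch hp) s ≤ ⊥ := by
        refine RGD.Sup_le fun a ha => ?_
        rw [hSZ] at ha
        exact absurd ha (Set.notMem_empty a)
      exact h2 hm
    exact (Subgroup.mem_bot).1 h1
  refine ⟨w, rp_cast hTL H.nsys _ (c := c) ?_⟩
  rw [e, hm1, one_mul]
  exact hn

end Gen

section Tor

variable {k : Type} [Field k] [CharP k 2] [PerfectRing k 2] [IsAlgClosed k] (hk : LocFin k)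

include hk in
/-- **The centralizer of `E5 k`** -/
theorem cent_E5 {y : ↥(chevE8.group k)} (h : ∀ t ∈ E5 k, y * t = t * y) : y ∈ TT chevE8 k := by
  obtain ⟨ζ, hζ⟩ := exists_zeta k
  choose s hs hsx using fun φ : (Fin 4 → ZMod 5) →+ ZMod 5 => exists_E5 hk hζ φ
  have hfin : Finite ((Fin 4 → ZMod 5) →+ ZMod 5) := Finite.of_injective (fun φ => (φ : (Fin 4 → ZMod 5) → ZMod 5))
    DFunLike.coe_injective
  -- the characters of the elements of the family
  have hsep : ∀ c c' : Fin 4 → ZMod 5, c ≠ c' → ∃ φ : (Fin 4 → ZMod 5) →+ ZMod 5, φ c ≠ φ c' := by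
    intro c c' hne
    obtain ⟨i, hi⟩ := Function.ne_iff.1 hne
    exact ⟨Pi.evalAddMonoidHom (fun _ : Fin 4 => ZMod 5) i, hi⟩
  have hzinj : ∀ a b : ZMod 5, ζ ^ a.val = ζ ^ b.val → a = b := by
    intro a b hab
    exact ZMod.val_injective 5 (hζ.pow_inj (ZMod.val_lt a) (ZMod.val_lt b) hab)
  obtain ⟨w, hw⟩ := rp_of_comm tp8 hk 2 (s := s) (fun φ => (hs φ).1) (fun a ha => by
    obtain ⟨φ, hφ⟩ := hsep (PP a) 0 (PP_ne_zero ha)
    refine ⟨φ, fun h1 => hφ ?_⟩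
    have h2 := cX_root tp8 cs8 (hs φ).1 ha
    rw [hsx, h1] at h2
    rw [map_zero]
    apply hzinj
    rw [h2, ZMod.val_zero, pow_zero]) (c := y) (fun φ => h _ (hs φ))
  have hw1 : w = 1 := by
    refine eq_one_of_fix cs8 tp8.isCartan _ fun i => ?_
    have hr := isRoot_sr cs8 tp8.isCartan i
    refine PP_inj (rt_act hr w) hr ?_
    by_contra hne
    obtain ⟨φ, hφ⟩ := hsep _ _ hne
    apply hφ
    apply hzinj
    have h2 := cX_rp tp8 cs8 hk 2 hw (hs φ).1 (sr i)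
    rw [h _ (hs φ), mul_inv_cancel_right, hsx, hsx] at h2
    exact h2
  rw [hw1] at hw
  exact hw.mem_of_one

/-! ### `nu` and `ta` -/

theorem ta_nu (v : W8) : ta k (nu tp8 k v) = nu tp8 k (w8 * v * w8⁻¹) := by
  rw [ta_apply, phi_nu, map_mul, map_mul, map_inv]

/-- the elements of `CW` are fixed -/
theorem nu_mem_GG {v : W8} (hv : v ∈ CW) : nu tp8 k v ∈ GG k := by
  rw [H865.EE.mem_GG, ta_nu]
  rw [CW, Subgroup.mem_centralizer_singleton_iff] at hv
  rw [← hv, mul_inv_cancel_right]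

include hk in
/-- `nu` is injective, modulo the torus -/
theorem nu_mem_TT {v : W8} (h : nu tp8 k v ∈ TT chevE8 k) : v = 1 := by
  refine eq_one_of_fix cs8 tp8.isCartan _ fun i => ?_
  have hr := isRoot_sr cs8 tp8.isCartan i
  obtain ⟨ζ, hζ⟩ := exists_zeta k
  refine PP_inj (rt_act hr v) hr ?_
  by_contra hne
  obtain ⟨j, hj⟩ := Function.ne_iff.1 hne
  obtain ⟨s, hs, hsx⟩ := exists_E5 hk hζ (Pi.evalAddMonoidHom (fun _ : Fin 4 => ZMod 5) j)
  have h2 := cX_nu hk v hs.1 (sr i)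
  rw [TT_comm tp8 _ h _ hs.1, mul_inv_cancel_right, hsx, hsx] at h2
  exact hj (ZMod.val_injective 5 (hζ.pow_inj (ZMod.val_lt _) (ZMod.val_lt _) h2))

include hk in
theorem finite_E5 : Finite ↥(E5 k) := by
  classical
  have h5 : Finite {c : k // c ^ 5 = 1} := by
    have : Set.Finite {c : k | c ^ 5 = 1} := by
      have h1 : {c : k | c ^ 5 = 1} ⊆ (Polynomial.nthRoots 5 (1 : k)).toFinset := by
        intro c hc
        rw [Finset.mem_coe, Multiset.mem_toFinset, Polynomial.mem_nthRoots (by norm_num)]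
        exact hc
      exact (Finset.finite_toSet _).subset h1
    exact this
  refine Finite.of_injective (fun t : ↥(E5 k) => fun i : Fin 8 =>
    (⟨cX tp8 (t : ↥(chevE8.group k)) (sr i), cX_E5_pow hk t.2 _⟩ : {c : k // c ^ 5 = 1})) ?_
  intro s t hst
  refine Subtype.ext (cX_inj tp8 s.2.1 t.2.1 fun i => ?_)
  exact congrArg Subtype.val (congrFun hst i)

include hk in
/-- **The normalizer of `E5 k` in `GG k`** -/
theorem norm_E5 {y : ↥(chevE8.group k)} (hy : y ∈ GG k) (h : ∀ t ∈ E5 k, y * t * y⁻¹ ∈ E5 k) :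
    ∃ v ∈ CW, ∃ t ∈ E5 k, y = nu tp8 k v * t := by
  have hfin := finite_E5 hk
  -- also `y⁻¹` normalises
  have h' : ∀ t ∈ E5 k, y⁻¹ * t * y ∈ E5 k := by
    have h1 : (E5 k).map (MulAut.conj y).toMonoidHom ≤ E5 k := by
      rintro _ ⟨t, ht, rfl⟩
      exact h t ht
    have h2 : (E5 k).map (MulAut.conj y).toMonoidHom = E5 k := by
      apply Subgroup.eq_of_le_of_card_ge h1
      rw [Subgroup.card_map_of_injective (MulAut.conj y).injective]
    intro t ht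
    rw [← h2] at ht
    obtain ⟨s, hs, rfl⟩ := ht
    show y⁻¹ * (y * s * y⁻¹) * y ∈ _
    rw [show y⁻¹ * (y * s * y⁻¹) * y = s by group]
    exact hs
  have hT : ∀ t ∈ TT chevE8 k, y * t * y⁻¹ ∈ TT chevE8 k := by
    intro t ht
    apply cent_E5 hk
    intro e he
    have h3 := TT_comm tp8 t ht _ (h' e he).1
    calc y * t * y⁻¹ * e = y * (t * (y⁻¹ * e * y)) * y⁻¹ := by group
      _ = y * (y⁻¹ * e * y * t) * y⁻¹ := by rw [h3]
      _ = e * (y * t * y⁻¹) := by group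
  obtain ⟨w, hw0⟩ := exists_rp_of_normalizes tp8 hk (r := 2) hT
  have hw : Rp cs8 (nsysL tp8 cs8 hk 2) w y := rp_cast (TL_eq tp8 hk) (tow tp8 cs8 hk 2).nsys _ hw0
  have ht := (nu_rp tp8 hk w).unique hw
  obtain ⟨t, ht2⟩ : ∃ t, t = (nu tp8 k w)⁻¹ * y := ⟨_, rfl⟩
  rw [← ht2] at ht
  have hyt : y = nu tp8 k w * t := by rw [ht2, mul_inv_cancel_left]
  have h4 : ta k y = y := hy
  rw [hyt, map_mul, ta_nu] at h4
  have h5 : nu tp8 k (w⁻¹ * (w8 * w * w8⁻¹)) = t * (ta k t)⁻¹ := by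
    rw [map_mul, map_inv, eq_mul_inv_iff_mul_eq, mul_assoc, h4, inv_mul_cancel_left]
  have h6 : w⁻¹ * (w8 * w * w8⁻¹) = 1 := by
    apply nu_mem_TT hk
    rw [h5]
    exact mul_mem ht (inv_mem (ta_TT hk ht))
  refine ⟨w, ?_, t, ⟨ht, ?_⟩, hyt⟩
  · rw [CW, Subgroup.mem_centralizer_singleton_iff]
    have h7 := inv_mul_eq_one.1 h6
    rw [eq_mul_inv_iff_mul_eq] at h7
    exact h7
  · rw [h6, map_one] at h5
    exact (mul_inv_eq_one.1 h5.symm).symm

include hk in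
/-- `ta` on the root elements -/
theorem ta_xc {a : Fin 8 → ℤ} (ha : Rt a) (c : k) : ta k (xc tp8 a c) = xc tp8 (act w8 a) (c ^ 2) := by
  rw [ta_apply]
  have h1 : phi chevE8 k 2 1 (xc tp8 a c) = xc tp8 a (c ^ 2) := by
    obtain ⟨j, hj, rfl⟩ := (isRoot_iff tp8 cs8 a).1 ha
    have := phi_xc tp8 2 hj c (m := 1)
    rwa [pow_one] at this
  rw [h1, nu_conj tp8 hk w8 ha]

theorem bsum_act (v : W8) (b : Fin 4 → Fin 8 → ℤ) (c : Fin 4 → ℤ) :
    act v (∑ i, c i • b i) = ∑ i, c i • act v (b i) := by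
  rw [map_sum]
  exact Finset.sum_congr rfl fun i _ => map_smul _ _ _

theorem Ph_act {v : W8} {b : Fin 4 → Fin 8 → ℤ} {a : Fin 8 → ℤ} (h : a ∈ Ph b) :
    act v a ∈ Ph (fun i => act v (b i)) := by
  obtain ⟨h1, c, rfl⟩ := h
  exact ⟨rt_act h1 v, c, bsum_act v b c⟩

theorem SS_act {v : W8} (hv : v ∈ CW) {b : Fin 4 → Fin 8 → ℤ} {a : Fin 8 → ℤ} (h : a ∈ SS b) :
    act v a ∈ SS (fun i => act v (b i)) := by
  rcases h with h | ⟨a', h, rfl⟩
  · exact Or.inl (Ph_act h)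
  · exact Or.inr ⟨act v a', Ph_act h, mem_CW.1 hv a'⟩

include hk in
theorem KK_nu (v : W8) {S S' : Set (Fin 8 → ℤ)} (hS : ∀ a ∈ S, Rt a) (h : ∀ a ∈ S, act v a ∈ S')
    {y : ↥(chevE8.group k)} (hy : y ∈ KK k S) : nu tp8 k v * y * (nu tp8 k v)⁻¹ ∈ KK k S' := by
  have h1 : KK k S ≤ (KK k S').comap (MulAut.conj (nu tp8 k v)).toMonoidHom := by
    refine (Subgroup.closure_le _).2 ?_
    rintro _ ⟨a, ha, c, rfl⟩
    show nu tp8 k v * xc tp8 a c * (nu tp8 k v)⁻¹ ∈ KK k S'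
    rw [nu_conj tp8 hk v (hS a ha)]
    exact Subgroup.subset_closure ⟨_, h a ha, c, rfl⟩
  exact h1 hy

theorem SS_rt {b : Fin 4 → Fin 8 → ℤ} {a : Fin 8 → ℤ} (h : a ∈ SS b) : Rt a := by
  rcases h with h | ⟨a', h, rfl⟩
  · exact h.1
  · exact rt_act h.1 w8

include hk in
theorem XB_nu {v : W8} (hv : v ∈ CW) {b : Fin 4 → Fin 8 → ℤ} {y : ↥(chevE8.group k)} (hy : y ∈ XB k b) :
    nu tp8 k v * y * (nu tp8 k v)⁻¹ ∈ XB k (fun i => act v (b i)) :=
  ⟨KK_nu hk v (fun _ h => SS_rt h) (fun _ h => SS_act hv h) hy.1,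
    (H865.EE.GG k).mul_mem ((H865.EE.GG k).mul_mem (nu_mem_GG hv) hy.2) ((H865.EE.GG k).inv_mem (nu_mem_GG hv))⟩

include hk in
/-- **The action of `CW` on the subgroups `XB b`** -/
theorem conj_XB {v : W8} (hv : v ∈ CW) (b : Fin 4 → Fin 8 → ℤ) :
    (XB k b).map (MulAut.conj (nu tp8 k v)).toMonoidHom = XB k (fun i => act v (b i)) := by
  apply le_antisymm
  · rintro _ ⟨y, hy, rfl⟩
    exact XB_nu hk hv hy
  · intro y hy
    have h1 := XB_nu hk (inv_mem hv) hy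
    have h2 : (fun i => act v⁻¹ (act v (b i))) = b := by
      funext i
      rw [← act_mul, inv_mul_cancel, act_one]
    rw [h2] at h1
    refine ⟨_, h1, ?_⟩
    show nu tp8 k v * (nu tp8 k v⁻¹ * y * (nu tp8 k v⁻¹)⁻¹) * (nu tp8 k v)⁻¹ = y
    rw [map_inv]
    group

end Tor

end Cfsg.Agent.H129.EE
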